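import Groth.Agent.Lib.Dim.Ring
import Groth.Agent.Lib.RedSub.Basic
import Mathlib.AlgebraicGeometry.Morphisms.FiniteType
import Mathlib.AlgebraicGeometry.Morphisms.UniversallyOpen
import Mathlib.AlgebraicGeometry.Pullbacks
import Mathlib.Topology.KrullDimension

/-!
# Dimension of schemes locally of finite type over a field
-/

universe u

open CategoryTheory Limits AlgebraicGeometry TopologicalSpace Topology
open scoped TensorProduct

namespace GrothLib.Dim

theorem topologicalKrullDim_le_of_cover {X : Type*} [TopologicalSpace X] {ι : Type*} (U : ι → Opens X)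
    (hU : ∀ x, ∃ i, x ∈ U i) {n : WithBot ℕ∞} (h : ∀ i, topologicalKrullDim (U i) ≤ n) :
    topologicalKrullDim X ≤ n := by
  refine iSup_le fun l => ?_
  obtain ⟨x, hx⟩ := l.head.isIrreducible.nonempty
  obtain ⟨i, hi⟩ := hU x
  let e := IrreducibleCloseds.orderIsoOfIsOpenEmbedding (Subtype.val : U i → X) (U i).2.isOpenEmbedding_subtypeVal
  have hmem : ∀ j, ((Subtype.val : U i → X) ⁻¹' (l j : Set X)).Nonempty := fun j =>
    ⟨⟨x, hi⟩, (show l.head ≤ l j from l.monotone (Fin.zero_le j)) hx⟩
  let l' : LTSeries (IrreducibleCloseds (U i)) :=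
    { length := l.length
      toFun := fun j => e.symm ⟨l j, hmem j⟩
      step := fun j => e.symm.strictMono (l.step j) }
  exact le_trans (le_iSup (fun L : LTSeries (IrreducibleCloseds (U i)) => (L.length : WithBot ℕ∞)) l') (h i)

theorem IsEmbedding.topologicalKrullDim_eq {X Y : Type*} [TopologicalSpace X] [TopologicalSpace Y] {f : X → Y}
    (hf : Topology.IsEmbedding f) {S : Set Y} (h : Set.range f = S) :
    topologicalKrullDim X = topologicalKrullDim S := by
  subst h
  exact IsHomeomorph.topologicalKrullDim_eq _ hf.toHomeomorph.isHomeomorph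

variable {K : Type u} [Field K]

/-- A finite type algebra structure on the sections over an affine open. -/
theorem exists_finiteType_specMap {X : Scheme.{u}} (f : X ⟶ Spec (CommRingCat.of K)) [LocallyOfFiniteType f]
    {U : X.Opens} (hU : IsAffineOpen U) :
    ∃ ψ : CommRingCat.of K ⟶ Γ(X, U), ψ.hom.FiniteType ∧ hU.fromSpec ≫ f = Spec.map ψ := by
  refine ⟨Spec.preimage (hU.fromSpec ≫ f), ?_, (Spec.map_preimage _).symm⟩
  rw [← HasRingHomProperty.Spec_iff (P := @LocallyOfFiniteType), Spec.map_preimage]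
  infer_instance

theorem topologicalKrullDim_affineOpen {X : Scheme.{u}} {U : X.Opens} (hU : IsAffineOpen U) :
    topologicalKrullDim U = ringKrullDim Γ(X, U) := by
  rw [← PrimeSpectrum.topologicalKrullDim_eq_ringKrullDim]
  exact (IsEmbedding.topologicalKrullDim_eq hU.fromSpec.isEmbedding hU.range_fromSpec).symm

theorem topologicalKrullDim_basicOpen {X : Scheme.{u}} (f : X ⟶ Spec (CommRingCat.of K)) [LocallyOfFiniteType f]
    [IsIntegral X] {U : X.Opens} (hU : IsAffineOpen U) (r : Γ(X, U)) (hr : Nonempty (X.basicOpen r)) :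
    topologicalKrullDim (X.basicOpen r) = topologicalKrullDim U := by
  rw [topologicalKrullDim_affineOpen hU, topologicalKrullDim_affineOpen (hU.basicOpen r)]
  obtain ⟨ψ, hψ, -⟩ := exists_finiteType_specMap f hU
  algebraize [ψ.hom]
  have : Algebra.FiniteType K Γ(X, U) := hψ
  have : Nonempty U := hr.map fun x => ⟨x.1, X.basicOpen_le r x.2⟩
  have : IsLocalization.Away r Γ(X, X.basicOpen r) := hU.isLocalization_basicOpen r
  refine ringKrullDim_away K Γ(X, U) r (fun h => ?_) _
  obtain ⟨x, hx⟩ := hr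
  subst h
  simp [Scheme.basicOpen_zero] at hx

theorem exists_nat_dim_affineOpen {X : Scheme.{u}} (f : X ⟶ Spec (CommRingCat.of K)) [LocallyOfFiniteType f]
    [IsIntegral X] {U : X.Opens} (hU : IsAffineOpen U) (hne : Nonempty U) :
    ∃ n : ℕ, topologicalKrullDim U = n := by
  obtain ⟨ψ, hψ, -⟩ := exists_finiteType_specMap f hU
  algebraize [ψ.hom]
  have : Algebra.FiniteType K Γ(X, U) := hψ
  obtain ⟨n, -, hn⟩ := exists_nat_trdeg_eq_and_ringKrullDim_eq K Γ(X, U)
  exact ⟨n, by rw [topologicalKrullDim_affineOpen hU, hn]⟩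

theorem topologicalKrullDim_affineOpen_eq {X : Scheme.{u}} (f : X ⟶ Spec (CommRingCat.of K)) [LocallyOfFiniteType f]
    [IsIntegral X] {U V : X.Opens} (hU : IsAffineOpen U) (hV : IsAffineOpen V) (hne : Nonempty U) (hne' : Nonempty V) :
    topologicalKrullDim U = topologicalKrullDim V := by
  obtain ⟨x, hx⟩ : ((U : Set X) ∩ V).Nonempty :=
    nonempty_preirreducible_inter U.2 V.2 ((Set.nonempty_coe_sort).1 hne) ((Set.nonempty_coe_sort).1 hne')
  obtain ⟨r, s, hrs, hxr⟩ := exists_basicOpen_le_affine_inter hU hV x hx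
  rw [← topologicalKrullDim_basicOpen f hU r ⟨⟨x, hxr⟩⟩, ← topologicalKrullDim_basicOpen f hV s ⟨⟨x, hrs ▸ hxr⟩⟩, hrs]

/-- All nonempty opens of an integral scheme of finite type over a field have its dimension. -/
theorem exists_nat_dim_open {X : Scheme.{u}} (f : X ⟶ Spec (CommRingCat.of K)) [LocallyOfFiniteType f]
    [IsIntegral X] :
    ∃ n : ℕ, topologicalKrullDim X = n ∧ ∀ U : X.Opens, Nonempty U → topologicalKrullDim U = n := by
  obtain ⟨x⟩ := (inferInstance : Nonempty X)
  obtain ⟨_, ⟨V, hV, rfl⟩, hxV, -⟩ := X.isBasis_affineOpens.exists_subset_of_mem_open (Set.mem_univ x) isOpen_univ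
  obtain ⟨n, hn⟩ := exists_nat_dim_affineOpen f hV ⟨⟨x, hxV⟩⟩
  have hle : topologicalKrullDim X ≤ n := by
    refine topologicalKrullDim_le_of_cover (fun W : {W : X.Opens // IsAffineOpen W} => W.1) (fun y => ?_) fun W => ?_
    · obtain ⟨_, ⟨W, hW, rfl⟩, hyW, -⟩ := X.isBasis_affineOpens.exists_subset_of_mem_open (Set.mem_univ y) isOpen_univ
      exact ⟨⟨W, hW⟩, hyW⟩
    · rcases isEmpty_or_nonempty W.1 with h | h
      · have : IsEmpty (IrreducibleCloseds (W.1 : Set X)) := ⟨fun Z => h.elim Z.isIrreducible.nonempty.some⟩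
        exact le_of_eq_of_le Order.krullDim_eq_bot bot_le
      · exact (topologicalKrullDim_affineOpen_eq f W.2 hV h ⟨⟨x, hxV⟩⟩).trans hn |>.le
  refine ⟨n, le_antisymm hle (hn ▸ topologicalKrullDim_subspace_le X V), fun U hU => ?_⟩
  refine le_antisymm ((topologicalKrullDim_subspace_le X U).trans hle) ?_
  obtain ⟨⟨y, hy⟩⟩ := hU
  obtain ⟨_, ⟨W, hW, rfl⟩, hyW, hWU⟩ := X.isBasis_affineOpens.exists_subset_of_mem_open hy U.2
  rw [← hn, ← topologicalKrullDim_affineOpen_eq f hW hV ⟨⟨y, hyW⟩⟩ ⟨⟨x, hxV⟩⟩]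
  exact (IsEmbedding.inclusion hWU).isInducing.topologicalKrullDim_le

/-- An irreducible closed set has the dimension of each of its nonempty open subsets. -/
theorem exists_nat_dim_irreducible {X : Scheme.{u}} (f : X ⟶ Spec (CommRingCat.of K)) [LocallyOfFiniteType f]
    {S : Set X} (hS : IsClosed S) (hS' : IsIrreducible S) :
    ∃ n : ℕ, topologicalKrullDim S = n ∧
      ∀ U : X.Opens, (S ∩ (U : Set X)).Nonempty → topologicalKrullDim (S ∩ (U : Set X) : Set X) = n := by
  let I := Scheme.IdealSheafData.vanishingIdeal (⟨S, hS⟩ : Closeds X)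
  have hr : Set.range I.subschemeι = S := RedSub.range_subschemeι_vanishingIdeal _
  have : IsReduced I.subscheme := RedSub.isReduced_subscheme_vanishingIdeal _
  have : IrreducibleSpace (Set.range I.subschemeι) := by rw [hr]; exact Subtype.irreducibleSpace hS'
  have : IrreducibleSpace I.subscheme :=
    Function.Surjective.irreducibleSpace (f := (I.subschemeι.isEmbedding.toHomeomorph).symm)
      (Homeomorph.continuous _) (Homeomorph.surjective _)
  have : IsIntegral I.subscheme := (isIntegral_iff_irreducibleSpace_and_isReduced _).2 ⟨‹_›, ‹_›⟩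
  obtain ⟨n, hn, hnU⟩ := exists_nat_dim_open (I.subschemeι ≫ f)
  refine ⟨n, by rw [← IsEmbedding.topologicalKrullDim_eq I.subschemeι.isEmbedding hr, hn], fun U hU => ?_⟩
  have hne : Nonempty (I.subschemeι ⁻¹ᵁ U : I.subscheme.Opens) := by
    obtain ⟨x, hxS, hxU⟩ := hU
    obtain ⟨y, rfl⟩ := hr.ge hxS
    exact ⟨⟨y, hxU⟩⟩
  rw [← hnU _ hne]
  refine (IsEmbedding.topologicalKrullDim_eq (f := fun y : (I.subschemeι ⁻¹ᵁ U : I.subscheme.Opens) => I.subschemeι y.1)
    (I.subschemeι.isEmbedding.comp Topology.IsEmbedding.subtypeVal) ?_).symm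
  ext x
  constructor
  · rintro ⟨y, rfl⟩
    exact ⟨hr.le (Set.mem_range_self _), y.2⟩
  · rintro ⟨hxS, hxU⟩
    obtain ⟨y, rfl⟩ := hr.ge hxS
    exact ⟨⟨y, hxU⟩, rfl⟩

variable {L : Type u} [Field L] [Algebra K L]

/-- The components of a base field extension of an integral scheme all have its dimension. -/
theorem topologicalKrullDim_component_pullback {X : Scheme.{u}} (f : X ⟶ Spec (CommRingCat.of K)) [LocallyOfFiniteType f]
    [IsIntegral X] (W : Set ↥(pullback (Spec.map (CommRingCat.ofHom (algebraMap K L))) f))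
    (hW : W ∈ irreducibleComponents _) :
    topologicalKrullDim W = topologicalKrullDim X := by
  let φ := Spec.map (CommRingCat.ofHom (algebraMap K L))
  let π := pullback.snd φ f
  have : LocallyOfFiniteType (pullback.fst φ f) := inferInstance
  have hWc : IsClosed W := isClosed_of_mem_irreducibleComponents W hW
  -- the generic point of the component lies over the generic point
  let η := hW.1.genericPoint
  have hη : IsGenericPoint η W := hW.1.isGenericPoint_genericPoint hWc
  have hdom : π η = genericPoint X := by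
    obtain ⟨η', hη', hπ⟩ := (Flat.generalizingMap π) (genericPoint_specializes (π η))
    have hsub : W ⊆ closure {η'} := by
      rw [← hη.def]; exact closure_minimal (Set.singleton_subset_iff.2 hη'.mem_closure) isClosed_closure
    have := Set.Subset.antisymm (hW.2 isIrreducible_singleton.closure hsub) hsub
    rw [← hπ, ← (hη.eq (this : IsGenericPoint η' W))]
  obtain ⟨_, ⟨U, hU, rfl⟩, hxU, -⟩ :=
    X.isBasis_affineOpens.exists_subset_of_mem_open (Set.mem_univ (genericPoint X)) isOpen_univ
  obtain ⟨ψ, hψ, hψ'⟩ := exists_finiteType_specMap f hU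
  algebraize [ψ.hom]
  have : Algebra.FiniteType K Γ(X, U) := hψ
  have : Nonempty U := ⟨⟨_, hxU⟩⟩
  let j : pullback φ (Spec.map (CommRingCat.ofHom (algebraMap K Γ(X, U)))) ⟶ pullback φ f :=
    pullback.map _ _ _ _ (𝟙 _) hU.fromSpec (𝟙 _) (by simp) (by rw [Category.comp_id, hψ']; rfl)
  have hjr : Set.range j = π ⁻¹' U := by
    rw [Scheme.Pullback.range_map]
    simp [π, hU.range_fromSpec]
  have : IsOpenImmersion j := inferInstance
  let e := pullbackSpecIso K L Γ(X, U)
  let j' := e.inv ≫ j
  have hjr' : Set.range j' = π ⁻¹' U := by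
    rw [← hjr, Scheme.Hom.comp_base, TopCat.coe_comp, Set.range_comp,
      Set.range_eq_univ.2 e.inv.surjective, Set.image_univ]
  have hmem : (j' ⁻¹' W) ∈ irreducibleComponents (PrimeSpectrum (L ⊗[K] Γ(X, U))) := by
    refine preimage_mem_irreducibleComponents hW j'.isOpenEmbedding ?_
    obtain ⟨a, ha⟩ := hjr'.ge (show η ∈ π ⁻¹' U by change π η ∈ U; rw [hdom]; exact hxU)
    exact ⟨η, hη.mem, a, ha⟩
  rw [← PrimeSpectrum.zeroLocus_minimalPrimes] at hmem
  obtain ⟨q, hq, hqW⟩ := hmem
  -- compute both dimensions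
  obtain ⟨n, hn, hnU⟩ := exists_nat_dim_open f
  obtain ⟨m, hm, hmU⟩ := exists_nat_dim_irreducible (pullback.fst φ f) hWc hW.1
  rw [hm, ← hmU ⟨π ⁻¹' U, U.2.preimage π.continuous⟩
      ⟨η, hη.mem, by change π η ∈ U; rw [hdom]; exact hxU⟩,
    hn, ← hnU U ⟨⟨_, hxU⟩⟩, topologicalKrullDim_affineOpen hU,
    ← ringKrullDim_quotient_minimalPrime_baseChange K Γ(X, U) L q hq,
    ← PrimeSpectrum.topologicalKrullDim_eq_ringKrullDim]
  refine (IsEmbedding.topologicalKrullDim_eq (f := fun p => j' (PrimeSpectrum.comap (Ideal.Quotient.mk q) p))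
    (j'.isEmbedding.comp (PrimeSpectrum.isClosedEmbedding_comap_of_surjective _ _ Ideal.Quotient.mk_surjective).isEmbedding) ?_).symm
  have hrg : Set.range (PrimeSpectrum.comap (Ideal.Quotient.mk q)) = (j' ⁻¹' W : Set (PrimeSpectrum _)) := by
    rw [range_comap_of_surjective _ _ Ideal.Quotient.mk_surjective, Ideal.mk_ker]
    exact hqW
  exact (Set.range_comp' j' _).trans ((congrArg (j' '' ·) hrg).trans
    (Set.image_preimage_eq_inter_range.trans (congrArg (W ∩ ·) hjr')))

/-- The components of the preimage of an irreducible closed set in a base field extension have its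
dimension. -/
theorem topologicalKrullDim_component_preimage {X : Scheme.{u}} (f : X ⟶ Spec (CommRingCat.of K)) [LocallyOfFiniteType f]
    {S : Set X} (hS : IsClosed S) (hS' : IsIrreducible S)
    (W : Set ↥(pullback.snd (Spec.map (CommRingCat.ofHom (algebraMap K L))) f ⁻¹' S))
    (hW : W ∈ irreducibleComponents _) :
    topologicalKrullDim W = topologicalKrullDim S := by
  let I := Scheme.IdealSheafData.vanishingIdeal (⟨S, hS⟩ : Closeds X)
  have hr : Set.range I.subschemeι = S := RedSub.range_subschemeι_vanishingIdeal _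
  have : IsReduced I.subscheme := RedSub.isReduced_subscheme_vanishingIdeal _
  have : IrreducibleSpace (Set.range I.subschemeι) := by rw [hr]; exact Subtype.irreducibleSpace hS'
  have : IrreducibleSpace I.subscheme :=
    Function.Surjective.irreducibleSpace (f := (I.subschemeι.isEmbedding.toHomeomorph).symm)
      (Homeomorph.continuous _) (Homeomorph.surjective _)
  have : IsIntegral I.subscheme := (isIntegral_iff_irreducibleSpace_and_isReduced _).2 ⟨‹_›, ‹_›⟩
  let φ := Spec.map (CommRingCat.ofHom (algebraMap K L))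
  let j : pullback φ (I.subschemeι ≫ f) ⟶ pullback φ f :=
    pullback.map _ _ _ _ (𝟙 _) I.subschemeι (𝟙 _) (by simp) (by simp)
  have hjr : Set.range j = pullback.snd φ f ⁻¹' S := by
    rw [Scheme.Pullback.range_map]
    simp [hr]
  have : IsClosedImmersion j := by
    suffices h : IsPullback j (pullback.snd φ (I.subschemeι ≫ f)) (pullback.snd φ f) I.subschemeι from
      MorphismProperty.of_isPullback h.flip inferInstance
    refine IsPullback.of_right (h₁₂ := pullback.fst φ f) (v₁₃ := φ) (h₂₂ := f) ?_ (pullback.lift_snd _ _ _)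
      (IsPullback.of_hasPullback φ f)
    have e : j ≫ pullback.fst φ f = pullback.fst φ (I.subschemeι ≫ f) :=
      (pullback.lift_fst _ _ _).trans (Category.comp_id _)
    rw [e]
    exact IsPullback.of_hasPullback φ (I.subschemeι ≫ f)
  let g : ↥(pullback φ (I.subschemeι ≫ f)) → ↥(pullback.snd φ f ⁻¹' S) := fun y => ⟨j y, hjr.le (Set.mem_range_self y)⟩
  have hg : IsEmbedding g := j.isEmbedding.codRestrict _ _
  have hgs : Function.Surjective g := fun ⟨y, hy⟩ => by
    obtain ⟨z, rfl⟩ := hjr.ge hy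
    exact ⟨z, rfl⟩
  have hmem : g ⁻¹' W ∈ irreducibleComponents ↥(pullback φ (I.subschemeι ≫ f)) :=
    preimage_mem_irreducibleComponents hW (hg.isOpenEmbedding_of_surjective hgs)
      (hW.1.nonempty.imp fun _ hw => ⟨hw, hgs _⟩)
  rw [← IsEmbedding.topologicalKrullDim_eq I.subschemeι.isEmbedding hr,
    ← topologicalKrullDim_component_pullback (I.subschemeι ≫ f) _ hmem]
  refine (IsEmbedding.topologicalKrullDim_eq (f := fun y : g ⁻¹' W => g y.1)
    (hg.comp Topology.IsEmbedding.subtypeVal) ?_).symm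
  exact (Set.range_comp g Subtype.val).trans (by rw [Subtype.range_coe, Set.image_preimage_eq _ hgs])

end GrothLib.Dim
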