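import Groth.Agent.Lib.Dim.Scheme
import Mathlib.AlgebraicGeometry.Morphisms.QuasiFinite
import Mathlib.AlgebraicGeometry.Morphisms.UnderlyingMap
import Mathlib.AlgebraicGeometry.Fiber
import Mathlib.AlgebraicGeometry.FunctionField

/-!
# Dimension of the generic fibre
-/

universe u

open CategoryTheory Limits AlgebraicGeometry TopologicalSpace Topology
open scoped TensorProduct

namespace GrothLib.Dim

theorem trdeg_eq_of_algebraic {k A B : Type u} [CommRing k] [Nontrivial k] [CommRing A] [CommRing B] [IsDomain B]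
    [Algebra k A] [Algebra k B] [Algebra A B] [IsScalarTower k A B] [FaithfulSMul k A] [FaithfulSMul A B]
    [Algebra.IsAlgebraic A B] : Algebra.trdeg k B = Algebra.trdeg k A := by
  rw [← trdeg_add_eq k A (A := B), trdeg_eq_zero (R := A) (A := B), add_zero]

theorem isAlgebraic_of_isLocalization {A B : Type u} [CommRing A] [IsDomain A] [CommRing B] [Algebra A B]
    (M : Submonoid A) (hM : M ≤ nonZeroDivisors A) [IsLocalization M B] : Algebra.IsAlgebraic A B :=
  ⟨fun x => by
    obtain ⟨⟨a, s⟩, e⟩ := IsLocalization.surj M x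
    refine ⟨Polynomial.C (s : A) * Polynomial.X - Polynomial.C a, fun h => ?_, ?_⟩
    · exact nonZeroDivisors.ne_zero (hM s.2) (by simpa using congrArg (fun P : Polynomial A => P.coeff 1) h)
    · rw [map_sub, map_mul, Polynomial.aeval_C, Polynomial.aeval_X, Polynomial.aeval_C, ← e]
      ring⟩

/-- The dimension formula for the generic fibre of an injection of affine domains. -/
theorem ringKrullDim_genericFibre (k : Type u) [Field k] (A B : Type u) [CommRing A] [CommRing B] [IsDomain A]
    [IsDomain B] [Algebra k A] [Algebra k B] [Algebra A B] [IsScalarTower k A B] [Algebra.FiniteType k A]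
    [Algebra.FiniteType k B] (h : Function.Injective (algebraMap A B)) :
    ∃ n m e : ℕ, ringKrullDim B = n ∧ ringKrullDim A = m ∧
      topologicalKrullDim {p : PrimeSpectrum B | PrimeSpectrum.comap (algebraMap A B) p = ⊥} = e ∧ n = m + e := by
  let M := Algebra.algebraMapSubmonoid B (nonZeroDivisors A)
  let C := Localization M
  let F := FractionRing A
  have hM : M ≤ nonZeroDivisors B := by
    rintro _ ⟨a, ha, rfl⟩
    exact mem_nonZeroDivisors_of_ne_zero fun h0 => nonZeroDivisors.ne_zero ha (h (by rw [h0, map_zero]))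
  have : IsDomain C := IsLocalization.isDomain_of_le_nonZeroDivisors (M := M) (S := C) (R := B) hM
  let algFC : Algebra F C := localizationAlgebra (nonZeroDivisors A) B
  have tow : IsScalarTower A F C := IsScalarTower.of_algebraMap_eq fun a => by
    change algebraMap A C a = IsLocalization.map C (algebraMap A B)
      (show nonZeroDivisors A ≤ M.comap (algebraMap A B) from Submonoid.le_comap_map _) (algebraMap A F a)
    rw [IsLocalization.map_eq, IsScalarTower.algebraMap_apply A B C]
  have : Algebra.FiniteType A B := Algebra.FiniteType.of_restrictScalars_finiteType k A B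
  have : Algebra.FiniteType F C := by
    have : Algebra.IsPushout A B F C := Algebra.isPushout_of_isLocalization (nonZeroDivisors A) F B C
    have : Algebra.IsPushout A F B C := Algebra.IsPushout.symm inferInstance
    exact Algebra.FiniteType.equiv inferInstance (Algebra.IsPushout.equiv A F B C)
  have : IsScalarTower k B C := inferInstance
  have : IsScalarTower k A F := inferInstance
  have : IsScalarTower k F C := IsScalarTower.of_algebraMap_eq fun x => by
    rw [IsScalarTower.algebraMap_apply k A F x, ← IsScalarTower.algebraMap_apply A F C,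
      IsScalarTower.algebraMap_apply A B C, ← IsScalarTower.algebraMap_apply k A B,
      ← IsScalarTower.algebraMap_apply k B C]
  have : FaithfulSMul B C := (faithfulSMul_iff_algebraMap_injective _ _).2 (IsLocalization.injective C hM)
  have : Algebra.IsAlgebraic B C := isAlgebraic_of_isLocalization M hM
  have : Algebra.IsAlgebraic A F := isAlgebraic_of_isLocalization (nonZeroDivisors A) le_rfl
  obtain ⟨n, hn, hn'⟩ := exists_nat_trdeg_eq_and_ringKrullDim_eq k B
  obtain ⟨m, hm, hm'⟩ := exists_nat_trdeg_eq_and_ringKrullDim_eq k A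
  obtain ⟨e, he, he'⟩ := exists_nat_trdeg_eq_and_ringKrullDim_eq F C
  refine ⟨n, m, e, hn', hm', ?_, ?_⟩
  · rw [← he', ← PrimeSpectrum.topologicalKrullDim_eq_ringKrullDim]
    refine (IsEmbedding.topologicalKrullDim_eq (PrimeSpectrum.localization_comap_isEmbedding C M) ?_).symm
    rw [PrimeSpectrum.localization_comap_range C M]
    ext p
    constructor
    · intro hd
      ext a
      refine ⟨fun ha => ?_, fun ha => ?_⟩
      · by_contra hne
        exact Set.disjoint_left.1 hd ⟨a, mem_nonZeroDivisors_of_ne_zero hne, rfl⟩ ha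
      · change a ∈ (⊥ : Ideal A) at ha
        rw [Ideal.mem_bot] at ha
        simp [ha]
    · intro hp
      refine Set.disjoint_left.2 ?_
      rintro _ ⟨a, ha, rfl⟩ hp'
      have : a ∈ (PrimeSpectrum.comap (algebraMap A B) p).asIdeal := hp'
      rw [hp] at this
      change a ∈ (⊥ : Ideal A) at this
      rw [Ideal.mem_bot] at this
      exact nonZeroDivisors.ne_zero ha this
  · have h1 : Algebra.trdeg k C = n := (trdeg_eq_of_algebraic (A := B)).trans hn
    have h2 : Algebra.trdeg k F = m := (trdeg_eq_of_algebraic (A := A)).trans hm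
    have h3 := trdeg_add_eq k F (A := C)
    rw [h1, h2, he] at h3
    exact_mod_cast h3.symm

variable {K : Type u} [Field K]

/-- The dimension of the generic fibre of a dominant morphism of integral schemes. -/
theorem exists_dim_genericFibre {X Y : Scheme.{u}} [IsIntegral X] [IsIntegral Y] (f : X ⟶ Y)
    (q : Y ⟶ Spec (CommRingCat.of K)) [LocallyOfFiniteType q] [LocallyOfFiniteType f] [IsDominant f] :
    ∃ n m e : ℕ, topologicalKrullDim X = n ∧ topologicalKrullDim Y = m ∧
      topologicalKrullDim (f ⁻¹' {genericPoint Y} : Set X) = e ∧ n = m + e := by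
  have hgen : f (genericPoint X) = genericPoint Y := by
    refine ((genericPoint_spec Y).eq ?_).symm
    change closure _ = _
    rw [← Set.image_singleton, ← closure_image_closure f.continuous, (genericPoint_spec X).def,
      Set.image_univ, f.denseRange.closure_range]
  obtain ⟨_, ⟨V, hV, rfl⟩, hyV, -⟩ :=
    Y.isBasis_affineOpens.exists_subset_of_mem_open (Set.mem_univ (genericPoint Y)) isOpen_univ
  obtain ⟨_, ⟨U, hU, rfl⟩, hxU, hUV⟩ :=
    X.isBasis_affineOpens.exists_subset_of_mem_open (show genericPoint X ∈ f ⁻¹ᵁ V by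
      change f (genericPoint X) ∈ V; rw [hgen]; exact hyV) (f ⁻¹ᵁ V).2
  have : Nonempty U := ⟨⟨_, hxU⟩⟩
  have : Nonempty V := ⟨⟨_, hyV⟩⟩
  obtain ⟨ψ, hψ, hψ'⟩ := exists_finiteType_specMap q hV
  obtain ⟨χ, hχ, hχ'⟩ := exists_finiteType_specMap (f ≫ q) hU
  let g := f.appLE V U hUV
  have hsq : Spec.map g ≫ hV.fromSpec = hU.fromSpec ≫ f := hV.SpecMap_appLE_fromSpec f hU hUV
  have htri : ψ ≫ g = χ := Spec.map_injective (by rw [Spec.map_comp, ← hψ', ← Category.assoc, hsq, Category.assoc, hχ'])
  algebraize [ψ.hom, χ.hom, g.hom]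
  have : IsScalarTower K Γ(Y, V) Γ(X, U) := IsScalarTower.of_algebraMap_eq' (congrArg CommRingCat.Hom.hom htri).symm
  have : Algebra.FiniteType K Γ(Y, V) := hψ
  have : Algebra.FiniteType K Γ(X, U) := hχ
  have hbotV : hV.fromSpec (genericPoint (Spec Γ(Y, V))) = genericPoint Y := genericPoint_eq_of_isOpenImmersion hV.fromSpec
  have hbotU : hU.fromSpec (genericPoint (Spec Γ(X, U))) = genericPoint X := genericPoint_eq_of_isOpenImmersion hU.fromSpec
  have hfib : ∀ p, f (hU.fromSpec p) = genericPoint Y ↔ PrimeSpectrum.comap g.hom p = ⊥ := fun p => by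
    rw [← Scheme.Hom.comp_apply, ← hsq, Scheme.Hom.comp_apply, ← hbotV, hV.fromSpec.isOpenEmbedding.injective.eq_iff,
      genericPoint_eq_bot_of_affine]
    rfl
  have hinj : Function.Injective (algebraMap Γ(Y, V) Γ(X, U)) := by
    rw [RingHom.injective_iff_ker_eq_bot, RingHom.algebraMap_toAlgebra, RingHom.ker_eq_comap_bot]
    have := (hfib (genericPoint (Spec Γ(X, U)))).1 (by rw [hbotU, hgen])
    rw [genericPoint_eq_bot_of_affine] at this
    exact congrArg PrimeSpectrum.asIdeal this
  obtain ⟨n, m, e, hn, hm, he, hnme⟩ := ringKrullDim_genericFibre K Γ(Y, V) Γ(X, U) hinj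
  obtain ⟨n', hn', hnU⟩ := exists_nat_dim_open (f ≫ q)
  obtain ⟨m', hm', hmV⟩ := exists_nat_dim_open q
  refine ⟨n, m, e, ?_, ?_, ?_, hnme⟩
  · rw [hn', ← hnU U ‹_›, topologicalKrullDim_affineOpen hU, hn]
  · rw [hm', ← hmV V ‹_›, topologicalKrullDim_affineOpen hV, hm]
  -- the fibre is irreducible and meets `U`
  let η := genericPoint Y
  let g₀ : f.fiber η ⟶ Spec (CommRingCat.of (Y.residueField η)) := f.fiberToSpecResidueField η
  have : LocallyOfFiniteType g₀ := MorphismProperty.pullback_snd f (Y.fromSpecResidueField η) ‹_›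
  let x₀ : f.fiber η := (f.fiberHomeo η).symm ⟨genericPoint X, hgen⟩
  have hx₀ : f.fiberι η x₀ = genericPoint X := f.fiberι_fiberHomeo_symm η ⟨genericPoint X, hgen⟩
  have hirr : IsIrreducible (Set.univ : Set ↥(f.fiber η)) := by
    have : closure {x₀} = Set.univ := by
      refine Set.eq_univ_of_forall fun z => ?_
      rw [← specializes_iff_mem_closure, ← (f.fiberι η).isEmbedding.isInducing.specializes_iff, hx₀]
      exact genericPoint_specializes _
    rw [← this]
    exact isIrreducible_singleton.closure
  obtain ⟨e', he', heU⟩ := exists_nat_dim_irreducible (K := Y.residueField η) g₀ isClosed_univ hirr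
  let U' : (f.fiber η).Opens := f.fiberι η ⁻¹ᵁ U
  have key : topologicalKrullDim (f ⁻¹' {η} : Set X) = topologicalKrullDim (Set.univ : Set ↥(f.fiber η)) :=
    (IsEmbedding.topologicalKrullDim_eq (f := fun z : (Set.univ : Set ↥(f.fiber η)) => f.fiberι η z.1)
      ((f.fiberι η).isEmbedding.comp Topology.IsEmbedding.subtypeVal)
      ((Set.range_comp _ Subtype.val).trans (by rw [Subtype.range_coe, Set.image_univ, f.range_fiberι]))).symm
  rw [key, he', ← heU U' ⟨x₀, trivial, by change f.fiberι η x₀ ∈ U; rw [hx₀]; exact hxU⟩, ← he]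
  refine (IsEmbedding.topologicalKrullDim_eq
    (f := fun z : (Set.univ ∩ (U' : Set ↥(f.fiber η)) : Set ↥(f.fiber η)) => f.fiberι η z.1)
    ((f.fiberι η).isEmbedding.comp Topology.IsEmbedding.subtypeVal) rfl).trans ?_
  refine (IsEmbedding.topologicalKrullDim_eq
    (f := fun p : {p : PrimeSpectrum Γ(X, U) | PrimeSpectrum.comap (algebraMap Γ(Y, V) Γ(X, U)) p = ⊥} => hU.fromSpec p.1)
    (hU.fromSpec.isEmbedding.comp Topology.IsEmbedding.subtypeVal) ?_).symm
  ext x
  constructor
  · rintro ⟨⟨p, hp⟩, rfl⟩
    obtain ⟨z, hz⟩ : hU.fromSpec p ∈ Set.range (f.fiberι η) := by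
      rw [f.range_fiberι]
      exact (hfib p).2 hp
    exact ⟨⟨z, trivial, by change f.fiberι η z ∈ U; rw [hz]; exact hU.range_fromSpec.le ⟨p, rfl⟩⟩, hz⟩
  · rintro ⟨⟨z, -, hzU⟩, rfl⟩
    obtain ⟨p, hp⟩ := hU.range_fromSpec.ge hzU
    refine ⟨⟨p, (hfib p).1 ?_⟩, hp⟩
    rw [hp]
    exact (f.range_fiberι η).le (Set.mem_range_self z)

/-- An irreducible closed set of dimension zero is a point. -/
theorem subsingleton_of_dim_eq_zero {X : Type*} [TopologicalSpace X] [T0Space X] [QuasiSober X] {S : Set X}
    (hS : IsClosed S) (hS' : IsIrreducible S) (h : topologicalKrullDim S ≤ 0) : S.Subsingleton := by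
  have hgen := hS'.isGenericPoint_genericPoint hS
  intro a ha b hb
  suffices ∀ c ∈ S, c = hS'.genericPoint from (this a ha).trans (this b hb).symm
  intro c hc
  by_contra hne
  let g : S := ⟨_, hgen.mem⟩
  let c' : S := ⟨c, hc⟩
  let T₀ : IrreducibleCloseds S :=
    { carrier := closure {c'}, isIrreducible' := isIrreducible_singleton.closure, isClosed' := isClosed_closure }
  let T₁ : IrreducibleCloseds S :=
    { carrier := closure {g}, isIrreducible' := isIrreducible_singleton.closure, isClosed' := isClosed_closure }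
  have hgc : g ⤳ c' := (subtype_specializes_iff _ _).2 (hgen.specializes hc)
  have hle : T₀ ≤ T₁ := closure_minimal (Set.singleton_subset_iff.2 hgc.mem_closure) isClosed_closure
  have hlt : T₀ < T₁ := lt_of_le_of_ne hle fun he => hne <| by
    have hg0 : g ∈ closure ({c'} : Set S) := by
      change g ∈ (T₀ : Set S); rw [he]; exact subset_closure rfl
    exact congrArg Subtype.val (((specializes_iff_mem_closure).2 hg0).antisymm hgc).eq
  have := (Order.krullDim_nonpos_iff_forall_isMin (α := IrreducibleCloseds S)).1 h T₁ hle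
  exact hlt.not_ge this

end GrothLib.Dim
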