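import Mathlib.RingTheory.Ideal.HasGoingUp
import Mathlib.RingTheory.Ideal.MinimalPrime.Localization
import Mathlib.RingTheory.KrullDimension.Field
import Mathlib.RingTheory.KrullDimension.Polynomial
import Mathlib.RingTheory.NoetherNormalization
import Mathlib.RingTheory.AlgebraicIndependent.TranscendenceBasis
import Mathlib.RingTheory.AlgebraicIndependent.Transcendental
import Mathlib.RingTheory.TensorProduct.MvPolynomial
import Mathlib.LinearAlgebra.TensorProduct.Pi
import Mathlib.RingTheory.Localization.Away.AdjoinRoot

/-!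
# Dimension theory of finite type algebras over a field
-/

universe u v

open TensorProduct

namespace GrothLib.Dim

section Integral

variable {R S : Type*} [CommRing R] [CommRing S] [Algebra R S] [Algebra.IsIntegral R S]

variable (R S) in
theorem ringKrullDim_le_of_isIntegral : ringKrullDim S ≤ ringKrullDim R :=
  Order.krullDim_le_of_strictMono (PrimeSpectrum.comap (algebraMap R S))
    fun _ _ h => Ideal.IsIntegral.comap_lt_comap h

theorem ringKrullDim_eq_of_isIntegral (h : Function.Injective (algebraMap R S)) :
    ringKrullDim S = ringKrullDim R := by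
  refine le_antisymm (ringKrullDim_le_of_isIntegral R S) (iSup_le fun l => ?_)
  obtain ⟨Q, -, hQ, hQl⟩ := Ideal.exists_ideal_over_prime_of_isIntegral (R := R) (S := S) l.head.asIdeal ⊥
    (by rw [← RingHom.ker_eq_comap_bot, (RingHom.injective_iff_ker_eq_bot _).1 h]; exact bot_le)
  have : Q.LiesOver l.head.asIdeal := ⟨hQl.symm⟩
  obtain ⟨L, hL, -, -⟩ := Ideal.exists_ltSeries_of_hasGoingUp l Q
  exact hL ▸ le_iSup (fun L : LTSeries (PrimeSpectrum S) => (L.length : WithBot ℕ∞)) L

end Integral

variable (k : Type u) [Field k] (A : Type v) [CommRing A] [Algebra k A] [Algebra.FiniteType k A]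

/-- A finite type domain has dimension equal to its transcendence degree. -/
theorem exists_nat_trdeg_eq_and_ringKrullDim_eq [IsDomain A] :
    ∃ n : ℕ, Algebra.trdeg k A = n ∧ ringKrullDim A = n := by
  obtain ⟨n, g, hinj, hfin⟩ := exists_finite_inj_algHom_of_fg k A
  algebraize [g.toRingHom]
  have : IsScalarTower k (MvPolynomial (Fin n) k) A := IsScalarTower.of_algebraMap_eq fun x => (g.commutes x).symm
  have : Module.Finite (MvPolynomial (Fin n) k) A := hfin
  have : FaithfulSMul (MvPolynomial (Fin n) k) A := (faithfulSMul_iff_algebraMap_injective _ _).2 hinj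
  refine ⟨n, ?_, ?_⟩
  · have h1 : Algebra.trdeg (MvPolynomial (Fin n) k) A = 0 := trdeg_eq_zero
    have h2 := lift_trdeg_add_eq k (MvPolynomial (Fin n) k) A
    rw [h1, MvPolynomial.trdeg_of_isDomain] at h2
    simpa [eq_comm] using h2.symm
  · rw [ringKrullDim_eq_of_isIntegral (R := MvPolynomial (Fin n) k) hinj,
      MvPolynomial.ringKrullDim_of_isNoetherianRing, ringKrullDim_eq_zero_of_field, zero_add, Nat.card_fin]

include k in
/-- A nonzero localization at one element of a finite type domain has the same dimension. -/
theorem ringKrullDim_away [IsDomain A] (f : A) (hf : f ≠ 0) (B : Type v) [CommRing B] [Algebra A B]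
    [IsLocalization.Away f B] : ringKrullDim B = ringKrullDim A := by
  let : Algebra k B := ((algebraMap A B).comp (algebraMap k A)).toAlgebra
  have : IsScalarTower k A B := IsScalarTower.of_algebraMap_eq' rfl
  have hle : Submonoid.powers f ≤ nonZeroDivisors A := powers_le_nonZeroDivisors_of_noZeroDivisors hf
  have : IsDomain B := IsLocalization.isDomain_of_le_nonZeroDivisors (M := Submonoid.powers f) (S := B) (R := A) hle
  have : Algebra.FiniteType A B := by
    have : Algebra.FinitePresentation A B := IsLocalization.Away.finitePresentation f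
    infer_instance
  have : Algebra.FiniteType k B := Algebra.FiniteType.trans (S := A) ‹_› ‹_›
  have : FaithfulSMul A B := (faithfulSMul_iff_algebraMap_injective _ _).2 (IsLocalization.injective B hle)
  have : Algebra.IsAlgebraic A B := ⟨fun x => by
    obtain ⟨⟨a, s⟩, e⟩ := IsLocalization.surj (Submonoid.powers f) x
    refine ⟨Polynomial.C (s : A) * Polynomial.X - Polynomial.C a, fun h => ?_, ?_⟩
    · exact nonZeroDivisors.ne_zero (hle s.2) (by simpa using congrArg (fun P : Polynomial A => P.coeff 1) h)
    · rw [map_sub, map_mul, Polynomial.aeval_C, Polynomial.aeval_X, Polynomial.aeval_C, ← e]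
      ring⟩
  obtain ⟨n, hn, hn'⟩ := exists_nat_trdeg_eq_and_ringKrullDim_eq k A
  obtain ⟨m, hm, hm'⟩ := exists_nat_trdeg_eq_and_ringKrullDim_eq k B
  have := trdeg_add_eq k A (A := B)
  rw [hn, trdeg_eq_zero (R := A) (A := B), hm, add_zero] at this
  rw [hn', hm', Nat.cast_injective this]

theorem exists_injective_linearMap_pi {P M : Type*} [CommRing P] [IsDomain P] [AddCommGroup M] [Module P M]
    [Module.Finite P M] [Module.IsTorsionFree P M] :
    ∃ (ι : Type) (_ : Fintype ι) (f : M →ₗ[P] ι → P), Function.Injective f := by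
  classical
  obtain ⟨m, v, hv⟩ := Module.Finite.exists_fin (R := P) (M := M)
  obtain ⟨s, hs, hmax⟩ := exists_maximal_linearIndepOn P v
  choose a ha hav using fun i : (sᶜ : Set (Fin m)) => hmax i.1 i.2
  have hc : (∏ i, a i) ≠ 0 := Finset.prod_ne_zero_iff.2 fun i _ => ha i
  have hmem : ∀ x, (∏ i, a i) • x ∈ Submodule.span P (v '' s) := by
    intro x
    have : x ∈ Submodule.span P (Set.range v) := hv ▸ Submodule.mem_top
    induction this using Submodule.span_induction with
    | mem x hx =>
      obtain ⟨i, rfl⟩ := hx
      by_cases hi : i ∈ s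
      · exact Submodule.smul_mem _ _ (Submodule.subset_span ⟨i, hi, rfl⟩)
      · rw [← Finset.prod_erase_mul Finset.univ a (Finset.mem_univ ⟨i, hi⟩), mul_smul]
        exact Submodule.smul_mem _ _ (hav ⟨i, hi⟩)
    | zero => simp
    | add x y _ _ hx hy => rw [smul_add]; exact add_mem hx hy
    | smul r x _ hx => rw [smul_comm]; exact Submodule.smul_mem _ _ hx
  have e : Submodule.span P (v '' s) = Submodule.span P (Set.range fun i : s => v i) := by
    rw [Set.image_eq_range]
  let N : Submodule P M := Submodule.span P (Set.range fun i : s => v i)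
  let b : Module.Basis s P N := Module.Basis.span (v := fun i : s => v i) hs.linearIndependent
  refine ⟨s, inferInstance, b.equivFun.toLinearMap ∘ₗ
    (LinearMap.codRestrict N (LinearMap.lsmul P M (∏ i, a i)) fun x => e.le (hmem x)), ?_⟩
  refine b.equivFun.injective.comp fun x y h => ?_
  exact smul_right_injective M hc (congrArg Subtype.val h)

/-- The components of a base change of a finite type domain all have its dimension. -/
theorem ringKrullDim_quotient_minimalPrime_baseChange (K : Type*) [Field K] [Algebra k K] [IsDomain A]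
    (q : Ideal (K ⊗[k] A)) (hq : q ∈ minimalPrimes (K ⊗[k] A)) :
    ringKrullDim ((K ⊗[k] A) ⧸ q) = ringKrullDim A := by
  obtain ⟨n, g, hinj, hfin⟩ := exists_finite_inj_algHom_of_fg k A
  let P := MvPolynomial (Fin n) k
  algebraize [g.toRingHom]
  have : IsScalarTower k P A := IsScalarTower.of_algebraMap_eq fun x => (g.commutes x).symm
  have : Module.Finite P A := hfin
  have : FaithfulSMul P A := (faithfulSMul_iff_algebraMap_injective _ _).2 hinj
  have : Module.IsTorsionFree P A := inferInstance
  let φ : K ⊗[k] P →ₐ[K] K ⊗[k] A := Algebra.TensorProduct.map (AlgHom.id K K) g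
  obtain ⟨ι, hι, f, hf⟩ := exists_injective_linearMap_pi (P := P) (M := A)
  let f' : (K ⊗[k] A) →ₗ[k] K ⊗[k] (ι → P) := (f.restrictScalars k).lTensor K
  have hf' : Function.Injective f' := Module.Flat.lTensor_preserves_injective_linearMap _ hf
  classical
  let π := TensorProduct.piRight k k K (fun _ : ι => P)
  have hlin : ∀ (p : K ⊗[k] P) (x : K ⊗[k] A), π (f' (φ p * x)) = fun i => p * π (f' x) i := by
    intro p x
    induction p with
    | zero => simp only [map_zero, zero_mul]; rfl
    | add p₁ p₂ h₁ h₂ => simp only [map_add, add_mul, h₁, h₂]; rfl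
    | tmul c p =>
      induction x with
      | zero => simp only [map_zero, Pi.zero_apply, mul_zero]; rfl
      | add x₁ x₂ h₁ h₂ => simp only [mul_add, map_add, h₁, h₂, Pi.add_apply]; rfl
      | tmul d x =>
        funext i
        have hg : g p * x = p • x := (Algebra.smul_def p x).symm
        simp [φ, f', π, hg]
  have hnz : ∀ p : K ⊗[k] P, p ≠ 0 → φ p ∈ nonZeroDivisors (K ⊗[k] A) := by
    have : IsDomain (K ⊗[k] P) :=
      (MvPolynomial.algebraTensorAlgEquiv k K).toRingEquiv.toMulEquiv.isDomain _
    intro p hp
    refine mem_nonZeroDivisors_iff_right.2 fun x hx => ?_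
    rw [mul_comm] at hx
    have h1 := congrArg π (congrArg f' hx)
    rw [hlin, map_zero, map_zero] at h1
    have h2 : π (f' x) = 0 := funext fun i => (mul_eq_zero.1 (congrFun h1 i)).resolve_left hp
    exact hf' (by rw [map_zero]; exact π.injective (by rw [h2, map_zero]))
  have hφ : φ.toRingHom.Finite := by
    have : Module.Finite P A := hfin
    exact RingHom.Finite.tensorProductMap (f := AlgHom.id k K) (g := g) (RingHom.Finite.id K) hfin
  algebraize [φ.toRingHom]
  have : Module.Finite (K ⊗[k] P) (K ⊗[k] A) := hφ
  have : q.IsPrime := hq.1.1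
  have hker : Function.Injective (algebraMap (K ⊗[k] P) ((K ⊗[k] A) ⧸ q)) := by
    refine (injective_iff_map_eq_zero _).2 fun p hp => ?_
    by_contra hne
    exact notMem_nonZeroDivisors_of_mem_mem_minimalPrimes (Ideal.Quotient.eq_zero_iff_mem.1 hp) hq (hnz p hne)
  rw [ringKrullDim_eq_of_isIntegral hker, ringKrullDim_eq_of_ringEquiv
    (MvPolynomial.algebraTensorAlgEquiv k K).toRingEquiv, MvPolynomial.ringKrullDim_of_isNoetherianRing,
    ringKrullDim_eq_of_isIntegral (R := P) hinj, MvPolynomial.ringKrullDim_of_isNoetherianRing,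
    ringKrullDim_eq_zero_of_field, ringKrullDim_eq_zero_of_field]

end GrothLib.Dim
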