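import Groth.Agent.Lib.Dim.Morphism
import Mathlib.AlgebraicGeometry.ZariskisMainTheorem

/-!
# Dimension and quasi-finite morphisms
-/

universe u

open CategoryTheory Limits AlgebraicGeometry TopologicalSpace Topology

namespace GrothLib.Dim

variable {K : Type u} [Field K]

theorem topologicalKrullDim_univ (X : Type*) [TopologicalSpace X] :
    topologicalKrullDim (Set.univ : Set X) = topologicalKrullDim X :=
  IsHomeomorph.topologicalKrullDim_eq _ (Homeomorph.Set.univ X).isHomeomorph

/-- A closed subset of full finite dimension in an irreducible space is everything. -/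
theorem eq_univ_of_dim_le {X : Type*} [TopologicalSpace X] [IrreducibleSpace X] {Z : Set X}
    (hZ : IsClosed Z) (h : topologicalKrullDim X ≤ topologicalKrullDim Z) {m : ℕ}
    (hm : topologicalKrullDim Z = m) : Z = Set.univ := by
  by_contra hne
  have hl : FiniteDimensionalOrder (IrreducibleCloseds Z) := by
    rw [Order.finiteDimensionalOrder_iff_krullDim_ne_bot_and_top]
    rw [topologicalKrullDim] at hm
    rw [hm]
    exact ⟨WithBot.natCast_ne_bot m, fun h => ENat.coe_ne_top m (WithBot.coe_injective h)⟩
  let l := LTSeries.longestOf (IrreducibleCloseds Z)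
  have hlen : topologicalKrullDim Z = (l.length : WithBot ℕ∞) := Order.krullDim_eq_length_of_finiteDimensionalOrder
  let top : IrreducibleCloseds X :=
    { carrier := Set.univ
      isIrreducible' := ⟨Set.univ_nonempty, PreirreducibleSpace.isPreirreducible_univ⟩
      isClosed' := isClosed_univ }
  let emb := IrreducibleCloseds.map (Subtype.val : Z → X) continuous_subtype_val
  let l' := l.map emb (IrreducibleCloseds.map_strictMono_of_isInducing Topology.IsInducing.subtypeVal)
  have hlt : l'.last < top := by
    refine lt_of_le_of_ne (fun _ _ => trivial) fun heq => hne ?_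
    rw [LTSeries.last_map] at heq
    have h2 : (emb l.last : Set X) ⊆ Z := closure_minimal (by simp) hZ
    rw [heq] at h2
    exact Set.univ_subset_iff.1 h2
  have hle : ((l'.snoc top hlt).length : WithBot ℕ∞) ≤ topologicalKrullDim X :=
    le_iSup (fun L : LTSeries (IrreducibleCloseds X) => (L.length : WithBot ℕ∞)) (l'.snoc top hlt)
  have := hle.trans (h.trans_eq hlen)
  have : l'.length + 1 ≤ l.length := by exact_mod_cast this
  simp [l'] at this

/-- The closure of the image of an integral scheme under a quasi-finite morphism has its dimension. -/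
theorem dim_closure_range_eq {X Y : Scheme.{u}} [IsIntegral X] (f : X ⟶ Y) (q : Y ⟶ Spec (CommRingCat.of K))
    [LocallyOfFiniteType q] [LocallyOfFiniteType f] [LocallyQuasiFinite f] :
    ∃ n : ℕ, topologicalKrullDim X = n ∧ topologicalKrullDim (closure (Set.range f)) = n := by
  let S : Set Y := closure (Set.range f)
  have hS : IsClosed S := isClosed_closure
  have hS' : IsIrreducible S := (Set.image_univ (f := f) ▸
    (IrreducibleSpace.isIrreducible_univ X).image f f.continuous.continuousOn).closure
  let I := Scheme.IdealSheafData.vanishingIdeal (⟨S, hS⟩ : Closeds Y)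
  have hr : Set.range I.subschemeι = S := RedSub.range_subschemeι_vanishingIdeal _
  have : IsReduced I.subscheme := RedSub.isReduced_subscheme_vanishingIdeal _
  have : IrreducibleSpace (Set.range I.subschemeι) := by rw [hr]; exact Subtype.irreducibleSpace hS'
  have : IrreducibleSpace I.subscheme :=
    Function.Surjective.irreducibleSpace (f := (I.subschemeι.isEmbedding.toHomeomorph).symm)
      (Homeomorph.continuous _) (Homeomorph.surjective _)
  have : IsIntegral I.subscheme := (isIntegral_iff_irreducibleSpace_and_isReduced _).2 ⟨‹_›, ‹_›⟩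
  obtain ⟨g, hg⟩ := RedSub.exists_lift f I.subschemeι (hr ▸ subset_closure)
  have : LocallyOfFiniteType g := by
    have : LocallyOfFiniteType (g ≫ I.subschemeι) := by rw [hg]; infer_instance
    exact locallyOfFiniteType_of_comp g I.subschemeι
  have : LocallyQuasiFinite g := by
    have : LocallyQuasiFinite (g ≫ I.subschemeι) := by rw [hg]; infer_instance
    exact LocallyQuasiFinite.of_comp g I.subschemeι
  have : IsDominant g := ⟨by
    intro z
    rw [I.subschemeι.isEmbedding.isInducing.closure_eq_preimage_closure_image, ← Set.range_comp,
      ← TopCat.coe_comp, ← Scheme.Hom.comp_base, hg]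
    exact hr.le (Set.mem_range_self z)⟩
  obtain ⟨n, m, e, hn, hm, he, hnme⟩ := exists_dim_genericFibre g (I.subschemeι ≫ q)
  have he0 : e = 0 := by
    have : DiscreteTopology (g ⁻¹' {genericPoint I.subscheme} : Set X) :=
      (isDiscrete_iff_discreteTopology).1 (g.isDiscrete_preimage_singleton _)
    have h0 := topologicalKrullDim_zero_of_discreteTopology (g ⁻¹' {genericPoint I.subscheme} : Set X)
    rw [he] at h0
    exact Nat.le_zero.1 (by exact_mod_cast h0)
  refine ⟨n, hn, ?_⟩
  rw [← IsEmbedding.topologicalKrullDim_eq I.subschemeι.isEmbedding hr, hm, hnme, he0, add_zero]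

end GrothLib.Dim
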